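import Cfsg.Agent.Lib.Block.FischerTypes.U6Code.Checks

/-! A permutation of order eleven of the points, and the small number of candidates commuting with it. -/

set_option autoImplicit false
set_option maxRecDepth 100000
set_option maxHeartbeats 4000000

namespace Cfsg.Agent.Block.FischerTypes.U6Code

/-- A word of transvections of order eleven. -/
def w11 : List ℕ := [2585, 1287, 1575, 4027, 539]

/-- Its action. -/
def step (x : ℕ) : ℕ := act w11 x

/-- The first eleven images. -/
def orbFrom : ℕ → ℕ → List ℕ
  | 0, _ => []
  | n + 1, x => x :: orbFrom n (step x)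

/-- An orbit. -/
def orb (x : ℕ) : List ℕ := orbFrom 11 x

/-- Repeated action. -/
def stepN : ℕ → ℕ → ℕ
  | 0, x => x
  | n + 1, x => stepN n (step x)

/-- The base of the first orbit. -/
def e0 : ℕ := 3

/-- The base of the second orbit. -/
def e1 : ℕ := 43

/-- Candidates for the image of the first base. -/
def cand0 : List ℕ := ptList.filter fun c => Nat.beq (key (orb c) c) (key (orb e0) e0)

/-- Candidates for the images of both bases. -/
def cand : List (ℕ × ℕ) := cand0.flatMap fun c => (ptList.filter fun e =>
  Nat.beq (key (orb c) e) (key (orb e0) e1) && Nat.beq (key (orb e) e) (key (orb e1) e1)).map fun e => (c, e)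

theorem w11_ok : (w11.all isPt && isPt e0 && isPt e1) = true := by decide +kernel

theorem step_ok : (ptList.all fun x => Nat.beq (stepN 11 x) x && !(Nat.beq (step x) x)) = true := by decide +kernel

theorem sep_ok : (ptList.all fun x => Nat.beq
    (ptList.filter fun y => Nat.beq (key (orb e0 ++ orb e1) y) (key (orb e0 ++ orb e1) x)).length 1) = true := by
  decide +kernel

theorem cand_ok : Nat.ble cand.length 33 = true := by decide +kernel

end Cfsg.Agent.Block.FischerTypes.U6Code
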