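import Cfsg.Agent.Lib.Block.FischerTypes.U6Code.Checks

/-! Pairwise orthogonal points of the polar space lie in planes. -/

set_option autoImplicit false
set_option maxRecDepth 100000
set_option maxHeartbeats 4000000

namespace Cfsg.Agent.Block.FischerTypes.U6Code

/-- The points orthogonal to both members of the base pair. -/
def pairList : List ℕ := ptList.filter fun x => adj b0 x && adj b1 x

/-- The line of the base pair. -/
def onPair (x : ℕ) : Bool := Nat.beq x b0 || Nat.beq x b1 || onLine b0 b1 x

/-- The plane of the base triangle. -/
def planeList : List ℕ := pairList.filter (adj b2)

theorem pair_w : ((pairList.all fun c => onPair c || Nat.ble (pairList.filter (adj c)).length 21) &&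
    Nat.ble (pairList.filter onPair).length 5) = true := by decide +kernel

theorem plane_w : (Nat.beq planeList.length 21 &&
    planeList.all fun c => planeList.all fun d => adj c d) = true := by decide +kernel

theorem line_symm : (pairList.all fun c => !(onLine b0 b1 c) || onLine b0 c b1) = true := by decide +kernel

end Cfsg.Agent.Block.FischerTypes.U6Code
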