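import Cfsg.Agent.Lib.Block.FischerTypes.U6Code.Checks
import Cfsg.Agent.Lib.Block.FischerTypes.U6Code.Planes
import Cfsg.Agent.Lib.Block.FischerTypes.U6Code.PairData

/-! Facts decided on the numbers about the classes of twins of a commuting pair. -/

set_option autoImplicit false
set_option maxRecDepth 100000
set_option maxHeartbeats 4000000

namespace Cfsg.Agent.Block.FischerTypes.U6Code

/-- The `i`th class. -/
def clsOf (i : ℕ) : List ℕ := twinCls.getD i []

/-- A member of the `i`th class. -/
def clsRep (i : ℕ) : ℕ := (clsOf i).getD 0 0

/-- Two classes commute. -/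
def gqA (i j : ℕ) : Bool := meetTab.testBit (45 * i + j)

/-- The classes commuting with a class, as bits. -/
def gqRow (i : ℕ) : ℕ := (meetTab >>> (45 * i)) &&& (2 ^ 45 - 1)

/-- The permutation of the classes by a member of the `i`th. -/
def tauN (i j : ℕ) : ℕ := (twinTau.getD i []).getD j 0

/-- What commutes with `i` and `j` commutes with `k`. -/
def cover (i j k : ℕ) : Bool := Nat.beq ((gqRow i &&& gqRow j) &&& gqRow k) (gqRow i &&& gqRow j)

/-- The points other than the first orthogonal to it. -/
def commonList : List ℕ := ptList.filter fun x => adj b0 x && !(Nat.beq x b0)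

theorem twin_len : (Nat.beq twinCls.length 45 && (List.range 45).all fun i => Nat.beq (clsOf i).length 4 &&
    (clsOf i).all fun c => isPt c && adj b0 c && !(Nat.beq c b0) &&
      Nat.beq ((clsOf i).filter (Nat.beq c)).length 1) = true := by decide +kernel

theorem twin_cover : (commonList.all fun c => (List.range 45).any fun i => (clsOf i).contains c) = true := by
  decide +kernel

theorem twin_adj : ((List.range 45).all fun i => (List.range 45).all fun j => (clsOf i).all fun a =>
    (clsOf j).all fun b => adj a b == gqA i j) = true := by decide +kernel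

theorem twin_sep : ((List.range 45).all fun i => (List.range 45).all fun j => Nat.beq i j ||
    (List.range 45).any fun k => gqA i k != gqA j k) = true := by decide +kernel

theorem tau_act : ((List.range 45).all fun i => (clsOf i).all fun c => (List.range 45).all fun j =>
    Nat.blt (tauN i j) 45 && (clsOf (tauN i j)).contains (refl c (clsRep j))) = true := by decide +kernel

theorem tau_sep : ((List.range 45).all fun i => (List.range 45).all fun j => Nat.beq i j ||
    (List.range 45).any fun k => !(Nat.beq (tauN i k) (tauN j k))) = true := by decide +kernel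

theorem tau_move : ((List.range 45).all fun i => (List.range 45).any fun k => !(Nat.beq (tauN i k) k)) = true := by
  decide +kernel

theorem tau_spec : ((List.range 45).all fun i => (List.range 45).all fun j =>
    cond (gqA i j) (Nat.beq (tauN i j) j)
      (!(Nat.beq (tauN i j) i) && !(Nat.beq (tauN i j) j) && cover i j (tauN i j) &&
        (List.range 45).all fun k => !(cover i j k) || Nat.beq k i || Nat.beq k j || Nat.beq k (tauN i j))) = true := by
  decide +kernel

theorem wit_ok : ((List.range 45).all fun i => Nat.blt (twinWit.getD i 45) 45 && (clsOf i).all fun x => (clsOf i).all fun y =>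
    Nat.beq x y || (clsOf (twinWit.getD i 45)).any fun a => (clsOf (twinWit.getD i 45)).any fun b =>
      !(Nat.beq a b) && Nat.beq (refl a (refl b x)) y) = true := by decide +kernel

/-- The three further points of the line through the first two. -/
def linePt (s : ℕ) : ℕ := b0 ^^^ smul s b1

theorem linePt_ok : ([1, 2, 3].all fun s => isPt (linePt s) && adj b0 (linePt s) && adj b1 (linePt s) &&
    !(Nat.beq (linePt s) b0) && !(Nat.beq (linePt s) b1) &&
    ([1, 2, 3].any fun t => !(Nat.beq t s) && Nat.beq (act e3 (linePt s)) (linePt t)) &&
    [1, 2, 3].all fun t => Nat.beq t s || !(Nat.beq (linePt t) (linePt s))) = true := by decide +kernel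

theorem line_only : (pairList.all fun c => Nat.beq c b0 || Nat.beq c b1 ||
    !(pairList.all fun y => Nat.beq y b0 || Nat.beq y b1 || adj c y) ||
    [1, 2, 3].any fun s => Nat.beq c (linePt s)) = true := by decide +kernel

theorem eigen_pair : ((List.range 4).all fun s => (List.range 4).all fun t => (List.range 4).all fun r =>
    !(Nat.beq (smul s b0 ^^^ smul t b1) (smul r (linePt 1))) || (Nat.beq s r && Nat.beq t r)) = true := by
  decide +kernel

theorem eigen_pair' : ((List.range 4).all fun s => (List.range 4).all fun t => (List.range 4).all fun r =>
    [2, 3].all fun k => !(Nat.beq (smul s b0 ^^^ smul k (smul t b1)) (smul r (linePt k))) ||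
      (Nat.beq s r && Nat.beq t r)) = true := by
  decide +kernel

theorem eigen_three : ((List.range 4).all fun s1 => (List.range 4).all fun s2 => (List.range 4).all fun s3 =>
    let Lx := smul s1 (linePt 1) ^^^ smul s2 (linePt 2) ^^^ smul s3 (linePt 3)
    let Ly := smul s1 (linePt 1) ^^^ Lx
    !(Nat.beq (Lx ^^^ smul 2 Ly) (smul s2 (linePt 2))) || Nat.beq Lx (smul s1 b0)) = true := by
  decide +kernel

theorem line_sum : (Nat.beq (linePt 1 ^^^ linePt 2 ^^^ linePt 3) b0 && Nat.beq (linePt 1 ^^^ b0) b1 &&
    Nat.beq (b0 ^^^ smul 2 b1) (linePt 2)) = true := by decide +kernel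

/-- A round which determines new points. -/
def chkOne (fx : List ℕ) (S new : List ℕ) : Bool :=
  S.all (fun s => fx.contains s) &&
    let keys := (ptList.filter fun x => !(fx.contains x)).map fun x => (x, key S x)
    new.all fun x => isPt x && Nat.ble ((keys.filter fun e => Nat.beq e.2 (key S x)).length) 1

/-- The rounds determining every point. -/
def chkOnes : List ℕ → List (List ℕ × List ℕ) → Bool
  | fx, [] => ptList.all fun x => fx.contains x
  | fx, r :: rs => chkOne fx r.1 r.2 && chkOnes (fx ++ r.2) rs

theorem twin_rounds : chkOnes (b0 :: c0 :: commonList) twinRounds = true := by decide +kernel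

theorem fibre_ok : (fibreSep.all (fun s => commonList.contains s) && ptList.all fun c =>
    adj b0 c || !(fibreSep.all fun s => adj s c == adj s c0) || Nat.beq c c0 || Nat.beq c (refl b0 c0)) = true := by
  decide +kernel

/-- The quadratic form on numbers below 64. -/
def qn (n : ℕ) : Bool :=
  (n.testBit 0 && n.testBit 2) ^^ (n.testBit 1 && n.testBit 3) ^^ n.testBit 4 ^^ (n.testBit 4 && n.testBit 5) ^^
    n.testBit 5

/-- A nonzero singular vector. -/
def isSing (n : ℕ) : Bool := !(Nat.beq n 0) && Nat.blt n 64 && !(qn n)

/-- The three vectors of a line. -/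
def lineVecs (i : ℕ) : List ℕ :=
  [(quadLines.getD i (0, 0)).1, (quadLines.getD i (0, 0)).2,
    (quadLines.getD i (0, 0)).1 ^^^ (quadLines.getD i (0, 0)).2]

theorem lines_q : ((List.range 45).all fun i => (lineVecs i).all isSing &&
    !(Nat.beq (quadLines.getD i (0, 0)).1 (quadLines.getD i (0, 0)).2)) = true := by decide +kernel

theorem lines_cover : ((List.range 64).all fun u => (List.range 64).all fun v => !(isSing u) || !(isSing v) ||
    !(isSing (u ^^^ v)) || (List.range 45).any fun i => (lineVecs i).contains u && (lineVecs i).contains v) = true := by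
  decide +kernel

theorem lines_meet : ((List.range 45).all fun i => (List.range 45).all fun j =>
    gqA i j == ((lineVecs i).any fun u => (lineVecs j).contains u) &&
      (Nat.beq i j || Nat.ble ((lineVecs i).filter fun u => (lineVecs j).contains u).length 1)) = true := by
  decide +kernel

theorem lines_point : ((List.range 64).all fun u => !(isSing u) || (List.range 45).any fun i =>
    (List.range 45).any fun j => !(Nat.beq i j) && (lineVecs i).contains u && (lineVecs j).contains u) = true := by
  decide +kernel

theorem unit_sum : ((List.range 6).all fun k => (List.range 64).any fun u => isSing u &&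
    isSing (2 ^ k ^^^ u) || isSing (2 ^ k)) = true := by decide +kernel

end Cfsg.Agent.Block.FischerTypes.U6Code
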