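import Cfsg.Agent.Lib.Block.FischerTypes.U6Code.Local
import Cfsg.Agent.Lib.Block.FischerTypes.U6Code.PairChecks

/-! The perpendicular group acts linearly on the numbered points. -/

set_option autoImplicit false
set_option linter.style.haveILetI false
set_option linter.unusedSectionVars false

namespace Cfsg.Agent.Block.FischerTypes.U6Code

open Cfsg Cfsg.Agent.Spor.ThreeTrans Cfsg.Agent.Classical Cfsg.Agent.Spor.UnitTwo Cfsg.Agent.Spor.USixTwo
open Cfsg.Agent.Classical.PSUAut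

/-- The transvection as a linear map. -/
noncomputable def tvLin (p : ℕ) : (Fin 6 → K4) →ₗ[K4] (Fin 6 → K4) where
  toFun v := v + hermForm 6 K4 2 v (vec p) • vec p
  map_add' u v := by rw [h_add_left, add_smul]; abel
  map_smul' a v := by rw [h_smul_left, RingHom.id_apply, smul_add, smul_smul]

theorem tvLin_pt {p c : ℕ} (hp : p < 4096) (hc : isPt c = true) :
    ∃ a : K4, a ≠ 0 ∧ tvLin p (vec c) = a • vec (refl p c) := by
  show ∃ a : K4, a ≠ 0 ∧ vec c + hermForm 6 K4 2 (vec c) (vec p) • vec p = a • vec (refl p c)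
  by_cases h : adj c p = true
  · exact ⟨1, one_ne_zero, by rw [refl_of_adj h, (adj_iff c p).1 h, zero_smul, add_zero, one_smul]⟩
  · obtain ⟨x, hx⟩ : ∃ x, x = c ^^^ smul (hv c p) p := ⟨_, rfl⟩
    have e : refl p c = nrm x := by rw [refl, Bool.eq_false_iff.2 h, hx]; rfl
    have evx : vec x = vec c + hermForm 6 K4 2 (vec c) (vec p) • vec p := by
      rw [hx, vec_xor, vec_smul (hv_lt c p), of_hv]
    obtain ⟨s, h1, h2, hs⟩ := nrm_eq (c := x) (hx ▸ Nat.xor_lt_two_pow (n := 12) (lt_of_isPt hc) (smul_lt _ _))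
    refine ⟨(K4.of s)⁻¹, inv_ne_zero (of_ne_zero h1 h2), ?_⟩
    rw [e, hs, vec_smul h2, smul_smul, inv_mul_cancel₀ (of_ne_zero h1 h2), one_smul, evx]

theorem eq_of_smul_vec {c d : ℕ} (hc : isPt c = true) (hd : isPt d = true) {a : K4} (e : vec c = a • vec d) :
    c = d := by
  obtain ⟨n, hn, rfl⟩ := K4.exists_of a
  have k : c = smul n d := eq_of_vec (lt_of_isPt hc) (smul_lt n d) (by rw [e, vec_smul hn])
  have hn0 : n ≠ 0 := by
    rintro rfl
    exact ne_zero_of_isPt hc (k.trans (by simp [smul]))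
  have hi := List.all_eq_true.1 pts_inj d (mem_ptList.2 hd)
  have hN : isNorm c = true := by simp only [isPt, Bool.and_eq_true] at hc; exact hc.1.2
  simp only [Bool.and_eq_true, Bool.not_eq_true'] at hi
  interval_cases n
  · exact absurd rfl hn0
  · rw [k]
    refine eq_of_vec (smul_lt 1 d) (lt_of_isPt hd) ?_
    rw [vec_smul (by norm_num)]
    exact one_smul _ _
  · rw [k, hi.1] at hN; exact absurd hN (by simp)
  · rw [k, hi.2] at hN; exact absurd hN (by simp)

theorem linePt_facts {s : ℕ} (h1 : 1 ≤ s) (h2 : s < 4) : isPt (linePt s) = true ∧ adj b0 (linePt s) = true ∧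
    adj b1 (linePt s) = true ∧ linePt s ≠ b0 ∧ linePt s ≠ b1 ∧
    (∃ t, 1 ≤ t ∧ t < 4 ∧ t ≠ s ∧ act e3 (linePt s) = linePt t) ∧
    ∀ t, 1 ≤ t → t < 4 → linePt t = linePt s → t = s := by
  have hs : s ∈ [1, 2, 3] := by
    interval_cases s <;> simp
  have h := List.all_eq_true.1 linePt_ok s hs
  simp only [Bool.and_eq_true, Bool.not_eq_true', List.any_eq_true, List.all_eq_true] at h
  obtain ⟨⟨⟨⟨⟨⟨k1, k2⟩, k3⟩, k4⟩, k5⟩, ⟨t, ht, k6, k7⟩⟩, k8⟩ := h
  have ht' : 1 ≤ t ∧ t < 4 := by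
    simp only [List.mem_cons, List.not_mem_nil, or_false] at ht
    omega
  refine ⟨k1, k2, k3, Nat.ne_of_beq_eq_false k4, Nat.ne_of_beq_eq_false k5,
    ⟨t, ht'.1, ht'.2, Nat.ne_of_beq_eq_false k6, Nat.eq_of_beq_eq_true k7⟩, fun t a b e => ?_⟩
  have := k8 t (by interval_cases t <;> simp)
  simp only [Bool.or_eq_true, Bool.not_eq_true'] at this
  rcases this with k | k
  · exact Nat.eq_of_beq_eq_true k
  · exact absurd e (Nat.ne_of_beq_eq_false k)

theorem vec_linePt {s : ℕ} (hs : s < 4) : vec (linePt s) = vec b0 + K4.of s • vec b1 := by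
  rw [linePt, vec_xor, vec_smul hs]

namespace Model

variable {G : Type*} [Group G] [Finite G] {D : Set G} {a : G} (M : Model D a)

/-- A group element acting as a linear map on the points. -/
def IsLin (g : G) : Prop :=
  ∃ L : (Fin 6 → K4) →ₗ[K4] (Fin 6 → K4), ∀ c, isPt c = true →
    ∃ d, isPt d = true ∧ g * M.pt c * g⁻¹ = M.pt d ∧ ∃ t : K4, t ≠ 0 ∧ L (vec c) = t • vec d

theorem isLin (h : IsThreeTranspositionClass D) {g : G} (hg : g ∈ PerpGroup D a) : M.IsLin g := by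
  have step : ∀ x ∈ perp D a, ∀ y, M.IsLin y → M.IsLin (x * y) := by
    intro x hx y hy
    obtain ⟨p, hp, rfl⟩ := M.surj x hx
    obtain ⟨L, hL⟩ := hy
    refine ⟨(tvLin p).comp L, fun c hc => ?_⟩
    obtain ⟨d, hd, e, t, ht, et⟩ := hL c hc
    obtain ⟨h1, h2⟩ := M.conj p d hp hd
    obtain ⟨s, hs, es⟩ := tvLin_pt (lt_of_isPt hp) hd
    refine ⟨refl p d, h1, ?_, t * s, mul_ne_zero ht hs, ?_⟩
    · rw [← h2, ← e, mul_inv_rev, inv_eq h.1 hx.1]
      simp [mul_assoc]
    · rw [LinearMap.comp_apply, et, map_smul, es, smul_smul]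
  induction hg using Subgroup.closure_induction_left with
  | one => exact ⟨LinearMap.id, fun c hc => ⟨c, hc, by simp, 1, one_ne_zero, by simp⟩⟩
  | mul_left x hx y _ ih => exact step x hx y ih
  | inv_mul_cancel x hx y _ ih =>
    rw [inv_eq h.1 (show x ∈ D from hx.1)]
    exact step x hx y ih

theorem lin_fixed {g : G} {L : (Fin 6 → K4) →ₗ[K4] (Fin 6 → K4)}
    (hL : ∀ c, isPt c = true → ∃ d, isPt d = true ∧ g * M.pt c * g⁻¹ = M.pt d ∧
      ∃ t : K4, t ≠ 0 ∧ L (vec c) = t • vec d) {c : ℕ} (hc : isPt c = true) (e : g * M.pt c * g⁻¹ = M.pt c) :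
    ∃ n, n < 4 ∧ n ≠ 0 ∧ L (vec c) = K4.of n • vec c := by
  obtain ⟨d, hd, e', t, ht, et⟩ := hL c hc
  obtain rfl : d = c := M.inj d c hd hc (e'.symm.trans e)
  obtain ⟨n, hn, rfl⟩ := K4.exists_of t
  exact ⟨n, hn, fun k => ht (by subst k; decide +kernel), et⟩

theorem fixed_of_lin {g : G} {L : (Fin 6 → K4) →ₗ[K4] (Fin 6 → K4)}
    (hL : ∀ c, isPt c = true → ∃ d, isPt d = true ∧ g * M.pt c * g⁻¹ = M.pt d ∧
      ∃ t : K4, t ≠ 0 ∧ L (vec c) = t • vec d) {c : ℕ} (hc : isPt c = true) {s : K4}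
    (e : L (vec c) = s • vec c) : g * M.pt c * g⁻¹ = M.pt c := by
  obtain ⟨d, hd, e', t, ht, et⟩ := hL c hc
  rw [e', eq_of_smul_vec hd hc (a := t⁻¹ * s) (by
    rw [← smul_smul, ← e, et, smul_smul, inv_mul_cancel₀ ht, one_smul])]

/-- Fixing the first two points and a third of their line fixes the line. -/
theorem line_fix (h : IsThreeTranspositionClass D) {g : G} (hg : g ∈ PerpGroup D a)
    (e0 : g * M.pt b0 * g⁻¹ = M.pt b0) (e1 : g * M.pt b1 * g⁻¹ = M.pt b1) {k : ℕ} (k1 : 1 ≤ k) (k4 : k < 4)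
    (ek : g * M.pt (linePt k) * g⁻¹ = M.pt (linePt k)) {m : ℕ} (m1 : 1 ≤ m) (m4 : m < 4) :
    g * M.pt (linePt m) * g⁻¹ = M.pt (linePt m) := by
  obtain ⟨L, hL⟩ := M.isLin h hg
  obtain ⟨s, hs, -, es⟩ := M.lin_fixed hL pt_b0 e0
  obtain ⟨t, ht, -, et⟩ := M.lin_fixed hL pt_b1 e1
  obtain ⟨r, hr, -, er⟩ := M.lin_fixed hL (linePt_facts k1 k4).1 ek
  have key : smul s b0 ^^^ smul k (smul t b1) = smul r (linePt k) := by
    refine eq_of_vec (Nat.xor_lt_two_pow (n := 12) (smul_lt _ _) (smul_lt _ _)) (smul_lt _ _) ?_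
    rw [vec_xor, vec_smul hs, vec_smul k4, vec_smul ht, vec_smul hr, ← er, ← es, ← et, ← map_smul, ← map_add,
      vec_linePt k4]
  have hsr : s = r ∧ t = r := by
    interval_cases k
    · have h1 : smul 1 (smul t b1) = smul t b1 := by
        refine eq_of_vec (smul_lt _ _) (smul_lt _ _) ?_
        rw [vec_smul (by norm_num)]
        exact one_smul _ _
      rw [h1] at key
      have := List.all_eq_true.1 (List.all_eq_true.1 (List.all_eq_true.1 eigen_pair s (List.mem_range.2 hs)) t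
        (List.mem_range.2 ht)) r (List.mem_range.2 hr)
      rw [key] at this
      simp only [Bool.or_eq_true, Bool.and_eq_true, Bool.not_eq_true'] at this
      rcases this with c | c
      · exact absurd rfl (Nat.ne_of_beq_eq_false c)
      · exact ⟨Nat.eq_of_beq_eq_true c.1, Nat.eq_of_beq_eq_true c.2⟩
    · have := List.all_eq_true.1 (List.all_eq_true.1 (List.all_eq_true.1 (List.all_eq_true.1 eigen_pair' s
        (List.mem_range.2 hs)) t (List.mem_range.2 ht)) r (List.mem_range.2 hr)) _ List.mem_cons_self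
      rw [key] at this
      simp only [Bool.or_eq_true, Bool.and_eq_true, Bool.not_eq_true'] at this
      rcases this with c | c
      · exact absurd rfl (Nat.ne_of_beq_eq_false c)
      · exact ⟨Nat.eq_of_beq_eq_true c.1, Nat.eq_of_beq_eq_true c.2⟩
    · have := List.all_eq_true.1 (List.all_eq_true.1 (List.all_eq_true.1 (List.all_eq_true.1 eigen_pair' s
        (List.mem_range.2 hs)) t (List.mem_range.2 ht)) r (List.mem_range.2 hr)) _ (List.mem_cons_of_mem _ List.mem_cons_self)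
      rw [key] at this
      simp only [Bool.or_eq_true, Bool.and_eq_true, Bool.not_eq_true'] at this
      rcases this with c | c
      · exact absurd rfl (Nat.ne_of_beq_eq_false c)
      · exact ⟨Nat.eq_of_beq_eq_true c.1, Nat.eq_of_beq_eq_true c.2⟩
  rw [hsr.1] at es
  rw [hsr.2] at et
  refine M.fixed_of_lin hL (linePt_facts m1 m4).1 (s := K4.of r) ?_
  rw [vec_linePt m4, map_add, map_smul, es, et, smul_add, smul_comm (K4.of m) (K4.of r)]

/-- Fixing the three further points of the line fixes its first point. -/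
theorem line_fix' (h : IsThreeTranspositionClass D) {g : G} (hg : g ∈ PerpGroup D a)
    (e : ∀ m, 1 ≤ m → m < 4 → g * M.pt (linePt m) * g⁻¹ = M.pt (linePt m)) :
    g * M.pt b0 * g⁻¹ = M.pt b0 := by
  obtain ⟨L, hL⟩ := M.isLin h hg
  obtain ⟨s1, h1, -, f1⟩ := M.lin_fixed hL (linePt_facts (le_refl 1) (by norm_num)).1 (e 1 le_rfl (by norm_num))
  obtain ⟨s2, h2, -, f2⟩ := M.lin_fixed hL (linePt_facts (show 1 ≤ 2 by norm_num) (by norm_num)).1
    (e 2 (by norm_num) (by norm_num))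
  obtain ⟨s3, h3, -, f3⟩ := M.lin_fixed hL (linePt_facts (show 1 ≤ 3 by norm_num) (by norm_num)).1
    (e 3 (by norm_num) (by norm_num))
  have hl := line_sum
  simp only [Bool.and_eq_true] at hl
  have a0 := Nat.eq_of_beq_eq_true hl.1.1
  have a1 := Nat.eq_of_beq_eq_true hl.1.2
  obtain ⟨X, hXdef⟩ : ∃ X, X = smul s1 (linePt 1) ^^^ smul s2 (linePt 2) ^^^ smul s3 (linePt 3) := ⟨_, rfl⟩
  obtain ⟨Y, hYdef⟩ : ∃ Y, Y = smul s1 (linePt 1) ^^^ X := ⟨_, rfl⟩
  have hX : X < 4096 := hXdef ▸ Nat.xor_lt_two_pow (n := 12)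
    (Nat.xor_lt_two_pow (n := 12) (smul_lt _ _) (smul_lt _ _)) (smul_lt _ _)
  have vX : L (vec b0) = vec X := by
    conv_lhs => rw [← a0]
    rw [vec_xor, vec_xor, map_add, map_add, f1, f2, f3, hXdef, vec_xor, vec_xor, vec_smul h1, vec_smul h2,
      vec_smul h3]
  have vY : L (vec b1) = vec Y := by
    conv_lhs => rw [← a1]
    rw [vec_xor, map_add, f1, vX, hYdef, vec_xor, vec_smul h1]
  have key : X ^^^ smul 2 Y = smul s2 (linePt 2) := by
    refine eq_of_vec (Nat.xor_lt_two_pow (n := 12) hX (smul_lt _ _)) (smul_lt _ _) ?_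
    rw [vec_xor, vec_smul (by norm_num), vec_smul h2, ← f2, ← vX, ← vY, vec_linePt (by norm_num), map_add, map_smul]
  have := List.all_eq_true.1 (List.all_eq_true.1 (List.all_eq_true.1 eigen_three s1 (List.mem_range.2 h1)) s2
    (List.mem_range.2 h2)) s3 (List.mem_range.2 h3)
  simp only [← hXdef, ← hYdef, key, Bool.or_eq_true, Bool.not_eq_true'] at this
  rcases this with c | c
  · exact absurd rfl (Nat.ne_of_beq_eq_false c)
  refine M.fixed_of_lin hL pt_b0 (s := K4.of s1) ?_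
  rw [vX, Nat.eq_of_beq_eq_true c, vec_smul h1]

end Model

end Cfsg.Agent.Block.FischerTypes.U6Code
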