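import Cfsg.Agent.Lib.Block.FischerTypes.U6Code.Model

/-! Transitivity and counts among the members commuting with a transposition. -/

set_option autoImplicit false
set_option linter.style.haveILetI false

namespace Cfsg.Agent.Block.FischerTypes.U6Code

open Cfsg Cfsg.Agent.Spor.ThreeTrans Cfsg.Agent.Classical Cfsg.Agent.Spor.UnitTwo Cfsg.Agent.Spor.USixTwo
open Cfsg.Agent.Classical.PSUAut

theorem adj_comm (u v : ℕ) : adj u v = adj v u := by
  rw [Bool.eq_iff_iff, adj_iff, adj_iff]
  exact ⟨h_comm_zero (card_sq h4), h_comm_zero (card_sq h4)⟩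

theorem adj_self {c : ℕ} (hc : isPt c = true) : adj c c = true := by
  simp only [isPt, Bool.and_eq_true] at hc; exact hc.2

theorem refl_of_adj {p c : ℕ} (h : adj c p = true) : refl p c = c := by rw [refl, h]; rfl

/-- A point orthogonal to two points is orthogonal to their line. -/
theorem adj_onLine {u v z y : ℕ} (hv : v < 4096) (h : onLine u v z = true) (hu' : adj y u = true)
    (hv' : adj y v = true) : adj y z = true := by
  simp only [onLine, Bool.or_eq_true] at h
  have key : ∀ s < 4, z = nrm (v ^^^ smul s u) → adj y z = true := fun s hs e => by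
    obtain ⟨t, -, ht, e'⟩ := nrm_eq (Nat.xor_lt_two_pow (n := 12) hv (smul_lt s u))
    rw [e, e', adj_iff, vec_smul ht, vec_xor, vec_smul hs, h_smul_right (card_sq h4),
      h_add_right (card_sq h4), h_smul_right (card_sq h4), (adj_iff y u).1 hu', (adj_iff y v).1 hv',
      mul_zero, add_zero, mul_zero]
  rcases h with (h | h) | h
  exacts [key 1 (by norm_num) (Nat.eq_of_beq_eq_true h), key 2 (by norm_num) (Nat.eq_of_beq_eq_true h),
    key 3 (by norm_num) (Nat.eq_of_beq_eq_true h)]

variable {G : Type*} [Group G] [Finite G] {D : Set G} {a : G}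

/-- Everything commuting with `a`, `u` and `v` commutes with `w`. -/
def LineT (D : Set G) (a u v w : G) : Prop := ∀ y ∈ perp D a, Commute y u → Commute y v → Commute y w

namespace Model

variable (M : Model D a)

/-- A conjugate numbering. -/
def conjBy (h : IsThreeTranspositionClass D) (g : G) (hg : Commute g a) : Model D a where
  pt c := g * M.pt c * g⁻¹
  mem c hc := perp_conj' h hg (M.mem c hc)
  surj u hu := by
    obtain ⟨c, hc, e⟩ := M.surj _ (perp_conj' h hg.inv_left hu)
    exact ⟨c, hc, by rw [e]; simp [mul_assoc]⟩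
  inj c d hc hd e := M.inj c d hc hd (mul_left_cancel (mul_right_cancel e))
  comm c d hc hd := (commute_conj_iff g _ _).trans (M.comm c d hc hd)
  conj p c hp hc := by
    obtain ⟨h1, h2⟩ := M.conj p c hp hc
    exact ⟨h1, by rw [← h2]; simp [mul_assoc]⟩

theorem lineT {u v z : ℕ} (hu : isPt u = true) (hv : isPt v = true) (hz : isPt z = true)
    (h : onLine u v z = true) : LineT D a (M.pt u) (M.pt v) (M.pt z) := by
  intro y hy hyu hyv
  obtain ⟨c, hc, rfl⟩ := M.surj y hy
  exact (M.comm c z hc hz).2 (adj_onLine (lt_of_isPt hv) h ((M.comm c u hc hu).1 hyu) ((M.comm c v hc hv).1 hyv))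

/-- A word of points as an element. -/
theorem word (h : IsThreeTranspositionClass D) : ∀ (w : List ℕ), (∀ p ∈ w, isPt p = true) →
    ∃ g ∈ PerpGroup D a, (∀ x, isPt x = true → isPt (act w x) = true ∧ g * M.pt x * g⁻¹ = M.pt (act w x))
  | [], _ => ⟨1, one_mem _, fun x hx => ⟨hx, by simp [act]⟩⟩
  | p :: w, hw => by
    obtain ⟨g, hg, hgx⟩ := word h w fun q hq => hw q (List.mem_cons_of_mem _ hq)
    have hp := hw p List.mem_cons_self
    refine ⟨g * M.pt p, mul_mem hg (Subgroup.subset_closure (M.mem p hp)), fun x hx => ?_⟩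
    obtain ⟨h1, h2⟩ := M.conj p x hp hx
    obtain ⟨h3, h5⟩ := hgx _ h1
    refine ⟨by simpa [act] using h3, ?_⟩
    rw [show act (p :: w) x = act w (refl p x) by simp [act], ← h5, ← h2, mul_inv_rev,
      inv_eq h.1 (M.mem p hp).1]
    simp [mul_assoc]

theorem act_fix {B w : List ℕ} (hw : fixes B w = true) {b : ℕ} (hb : b ∈ B) : act w b = b := by
  simp only [fixes, List.all_eq_true, Bool.and_eq_true] at hw
  induction w with
  | nil => rfl
  | cons p w ih =>
    have hp := (hw p List.mem_cons_self).2 b hb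
    show act w (refl p b) = b
    rw [refl_of_adj hp]
    exact ih fun q hq => hw q (List.mem_cons_of_mem _ hq)

/-- The transversals. -/
theorem move (h : IsThreeTranspositionClass D) {B : List ℕ} {x : ℕ} {tr : List (ℕ × List ℕ)} {cl : List ℕ}
    (hB : ∀ b ∈ B, isPt b = true) (hx : isPt x = true) (ht : chkTr B x tr cl = true) {c : ℕ} (hc : c ∈ cl) :
    ∃ g ∈ PerpGroup D a, g * M.pt x * g⁻¹ = M.pt c ∧ ∀ b ∈ B, g * M.pt b * g⁻¹ = M.pt b := by
  simp only [chkTr, Bool.and_eq_true, List.all_eq_true, List.any_eq_true] at ht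
  obtain ⟨e, he, hec⟩ := ht.2 c hc
  obtain ⟨hf, hact⟩ := ht.1 e he
  have hw : ∀ p ∈ e.2, isPt p = true := fun p hp => by
    simp only [fixes, List.all_eq_true, Bool.and_eq_true] at hf
    exact (hf p hp).1
  obtain ⟨g, hg, hgx⟩ := M.word h e.2 hw
  refine ⟨g, hg, ?_, fun b hb => ?_⟩
  · rw [(hgx x hx).2, Nat.eq_of_beq_eq_true hact, Nat.eq_of_beq_eq_true hec]
  · rw [(hgx b (hB b hb)).2, act_fix hf hb]

theorem pt_b0 : isPt b0 = true := by decide +kernel
theorem pt_b1 : isPt b1 = true := by decide +kernel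
theorem pt_b2 : isPt b2 = true := by decide +kernel
theorem pt_c0 : isPt c0 = true := by decide +kernel

theorem commute_perp {g : G} (hg : g ∈ PerpGroup D a) : Commute g a :=
  commute_all (fun x hx => hx.2.2.symm) hg

include M in
theorem exists_base (h : IsThreeTranspositionClass D) {u : G} (hu : u ∈ perp D a) :
    ∃ M' : Model D a, M'.pt b0 = u := by
  obtain ⟨c, hc, rfl⟩ := M.surj u hu
  obtain ⟨g, hg, e, -⟩ := M.move h (B := []) (by simp) pt_b0 tr0_ok (mem_ptList.2 hc)
  exact ⟨M.conjBy h g (commute_perp hg), e⟩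

include M in
theorem exists_pair (h : IsThreeTranspositionClass D) {u v : G} (hu : u ∈ perp D a) (hv : v ∈ perp D a)
    (hne : u ≠ v) (hc : Commute u v) : ∃ M' : Model D a, M'.pt b0 = u ∧ M'.pt b1 = v := by
  obtain ⟨N, rfl⟩ := M.exists_base h hu
  obtain ⟨c, hc', rfl⟩ := N.surj v hv
  obtain ⟨g, hg, e, hfix⟩ := N.move h (B := [b0]) (by simp [pt_b0]) pt_b1 tr1_ok (c := c) (by
    refine List.mem_filter.2 ⟨mem_ptList.2 hc', ?_⟩
    rw [(N.comm _ _ pt_b0 hc').1 hc]
    simp only [Bool.true_and, Bool.not_eq_true', ← Bool.not_eq_true]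
    exact fun e => hne (by rw [Nat.eq_of_beq_eq_true e]))
  exact ⟨N.conjBy h g (commute_perp hg), hfix b0 List.mem_cons_self, e⟩

include M in
theorem exists_apart (h : IsThreeTranspositionClass D) {u v : G} (hu : u ∈ perp D a) (hv : v ∈ perp D a)
    (hnc : ¬ Commute u v) : ∃ M' : Model D a, M'.pt b0 = u ∧ M'.pt c0 = v := by
  obtain ⟨N, rfl⟩ := M.exists_base h hu
  obtain ⟨c, hc, rfl⟩ := N.surj v hv
  obtain ⟨g, hg, e, hfix⟩ := N.move h (B := [b0]) (by simp [pt_b0]) pt_c0 trApart_ok (c := c) (by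
    refine List.mem_filter.2 ⟨mem_ptList.2 hc, ?_⟩
    rw [Bool.eq_false_iff.2 fun k => hnc ((N.comm _ _ pt_b0 hc).2 k)]
    rfl)
  exact ⟨N.conjBy h g (commute_perp hg), hfix b0 List.mem_cons_self, e⟩

include M in
/-- Counting through the numbering. -/
theorem ncard_eq {P : G → Prop} {l : List ℕ} (hl : l.Nodup) (hpt : ∀ c ∈ l, isPt c = true)
    (hP : ∀ c, isPt c = true → (P (M.pt c) ↔ c ∈ l)) : {u | u ∈ perp D a ∧ P u}.ncard = l.length := by
  classical
  have e : {u | u ∈ perp D a ∧ P u} = ↑(l.toFinset.image M.pt) := by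
    ext u
    simp only [Finset.coe_image, Set.mem_image, List.coe_toFinset, Set.mem_setOf_eq]
    constructor
    · rintro ⟨hu, hPu⟩
      obtain ⟨c, hc, rfl⟩ := M.surj u hu
      exact ⟨c, (hP c hc).1 hPu, rfl⟩
    · rintro ⟨c, hc, rfl⟩
      exact ⟨M.mem c (hpt c hc), (hP c (hpt c hc)).2 hc⟩
  rw [e, Set.ncard_coe_finset, Finset.card_image_of_injOn, List.toFinset_card_of_nodup hl]
  intro c hc d hd k
  simp only [List.coe_toFinset, Set.mem_setOf_eq] at hc hd
  exact M.inj c d (hpt c hc) (hpt d hd) k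

theorem nodup_ptList : ptList.Nodup := (List.nodup_range).filter _

include M in
theorem card_perp : (perp D a).ncard = 693 := by
  rw [← card_pts, ← M.ncard_eq (P := fun _ => True) nodup_ptList (fun c hc => mem_ptList.1 hc)
    fun c hc => iff_of_true trivial (mem_ptList.2 hc)]
  simp

include M in
theorem card_commute (h : IsThreeTranspositionClass D) {v : G} (hv : v ∈ perp D a) :
    {u | u ∈ perp D a ∧ Commute v u}.ncard = 181 := by
  obtain ⟨N, rfl⟩ := M.exists_base h hv
  rw [← deg]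
  refine N.ncard_eq (nodup_ptList.filter _) (fun c hc => mem_ptList.1 (List.mem_filter.1 hc).1) fun c hc => ?_
  rw [List.mem_filter, N.comm _ _ pt_b0 hc]
  exact (and_iff_right (mem_ptList.2 hc)).symm

include M in
theorem card_both (h : IsThreeTranspositionClass D) {u v : G} (hu : u ∈ perp D a) (hv : v ∈ perp D a)
    (hnc : ¬ Commute u v) : {w | w ∈ perp D a ∧ Commute u w ∧ Commute v w}.ncard = 45 := by
  obtain ⟨N, rfl, rfl⟩ := M.exists_apart h hu hv hnc
  rw [← card_w]
  refine N.ncard_eq (nodup_ptList.filter _) (fun c hc => mem_ptList.1 (List.mem_filter.1 hc).1) fun c hc => ?_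
  rw [N.comm _ _ pt_b0 hc, N.comm _ _ pt_c0 hc, wList, List.mem_filter, Bool.and_eq_true]
  exact (and_iff_right (mem_ptList.2 hc)).symm

include M in
theorem card_three (h : IsThreeTranspositionClass D) {u v r : G} (hu : u ∈ perp D a) (hv : v ∈ perp D a)
    (hnc : ¬ Commute u v) (hr : r ∈ perp D a) (hru : Commute u r) (hrv : Commute v r) :
    {w | w ∈ perp D a ∧ Commute u w ∧ Commute v w ∧ Commute r w}.ncard = 13 := by
  obtain ⟨N, rfl, rfl⟩ := M.exists_apart h hu hv hnc
  obtain ⟨r, hr', rfl⟩ := N.surj r hr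
  have hrW : r ∈ wList := by
    rw [wList, List.mem_filter, Bool.and_eq_true]
    exact ⟨mem_ptList.2 hr', (N.comm _ _ pt_b0 hr').1 hru, (N.comm _ _ pt_c0 hr').1 hrv⟩
  rw [← Nat.eq_of_beq_eq_true (List.all_eq_true.1 deg_w r hrW)]
  refine N.ncard_eq ((nodup_ptList.filter _).filter _)
    (fun c hc => mem_ptList.1 (List.mem_filter.1 (List.mem_filter.1 hc).1).1) fun c hc => ?_
  rw [N.comm _ _ pt_b0 hc, N.comm _ _ pt_c0 hc, N.comm _ _ hr' hc, List.mem_filter, wList, List.mem_filter,
    Bool.and_eq_true]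
  constructor
  · exact fun k => ⟨⟨mem_ptList.2 hc, k.1, k.2.1⟩, k.2.2⟩
  · exact fun k => ⟨k.1.2.1, k.1.2.2, k.2⟩

include M in
/-- Two commuting members commuting with an apart pair are separated beside the first of the pair. -/
theorem exists_sep (h : IsThreeTranspositionClass D) {p q v w : G} (hp : p ∈ perp D a) (hq : q ∈ perp D a)
    (hnc : ¬ Commute p q) (hv : v ∈ perp D a) (hw : w ∈ perp D a) (hvw : v ≠ w) (hc : Commute v w)
    (h1 : Commute p v) (h2 : Commute q v) (h3 : Commute p w) (h4' : Commute q w) :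
    ∃ y ∈ perp D a, y ≠ p ∧ Commute p y ∧ Commute v y ∧ ¬ Commute w y := by
  obtain ⟨N, rfl, rfl⟩ := M.exists_apart h hp hq hnc
  obtain ⟨v, hv', rfl⟩ := N.surj v hv
  obtain ⟨w, hw', rfl⟩ := N.surj w hw
  have inW : ∀ c, isPt c = true → Commute (N.pt b0) (N.pt c) → Commute (N.pt c0) (N.pt c) → c ∈ wList :=
    fun c hc k k' => by
      rw [wList, List.mem_filter, Bool.and_eq_true]
      exact ⟨mem_ptList.2 hc, (N.comm _ _ pt_b0 hc).1 k, (N.comm _ _ pt_c0 hc).1 k'⟩
  have := List.all_eq_true.1 (List.all_eq_true.1 sep_w v (inW v hv' h1 h2)) w (inW w hw' h3 h4')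
  simp only [Bool.or_eq_true, Bool.not_eq_true', List.any_eq_true, Bool.and_eq_true] at this
  rcases this with (k | k) | ⟨y, hy, ⟨⟨k1, k2⟩, k3⟩, k4⟩
  · exact absurd (by rw [Nat.eq_of_beq_eq_true k]) hvw
  · rw [(N.comm _ _ hv' hw').1 hc] at k; exact absurd k (by simp)
  · have hy' := mem_ptList.1 hy
    refine ⟨N.pt y, N.mem y hy', fun e => ?_, (N.comm _ _ pt_b0 hy').2 k1, (N.comm _ _ hv' hy').2 k2,
      fun k => ?_⟩
    · rw [N.inj _ _ hy' pt_b0 e, show Nat.beq b0 b0 = true by decide +kernel] at k4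
      exact Bool.noConfusion k4
    · rw [(N.comm _ _ hw' hy').1 k] at k3; exact Bool.noConfusion k3

end Model

end Cfsg.Agent.Block.FischerTypes.U6Code
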