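import Cfsg.Agent.Lib.Block.FischerTypes.U6Code.Code
import Cfsg.Agent.Lib.Block.FischerTypes.U6Code.Data

/-! Facts about the polar space of `U₆(2)` decided on the numbers. -/

set_option autoImplicit false
set_option maxRecDepth 100000
set_option maxHeartbeats 4000000

namespace Cfsg.Agent.Block.FischerTypes.U6Code

/-- The points. -/
def ptList : List ℕ := (List.range 4096).filter isPt

/-- Apply a word of transvections, the first letter first. -/
def act (w : List ℕ) (x : ℕ) : ℕ := w.foldl (fun y p => refl p y) x

/-- The points orthogonal to two points that are not orthogonal. -/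
def wList : List ℕ := ptList.filter fun x => adj b0 x && adj c0 x

/-- `z` is on the line through `u` and `v`. -/
def onLine (u v z : ℕ) : Bool :=
  Nat.beq z (nrm (v ^^^ smul 1 u)) || Nat.beq z (nrm (v ^^^ smul 2 u)) || Nat.beq z (nrm (v ^^^ smul 3 u))

/-- Five points on a line. -/
def isLine (l : List ℕ) : Bool :=
  Nat.beq l.length 5 && l.all isPt && l.all fun x => l.all fun y => l.all fun z =>
    Nat.beq x y || Nat.beq x z || Nat.beq y z || (adj x y && onLine x y z)

/-- A word of points orthogonal to the points of `B`. -/
def fixes (B w : List ℕ) : Bool := w.all fun p => isPt p && B.all fun b => adj b p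

/-- Words moving `x` to each point of `cl`, fixing `B`. -/
def chkTr (B : List ℕ) (x : ℕ) (tr : List (ℕ × List ℕ)) (cl : List ℕ) : Bool :=
  (tr.all fun e => fixes B e.2 && Nat.beq (act e.2 x) e.1) && cl.all fun c => tr.any fun e => Nat.beq e.1 c

/-- The fourth points of a frame. -/
def nineList : List ℕ := ptList.filter fun x =>
  adj b0 x && adj b1 x && adj b2 x && !(Nat.beq x b0) && !(Nat.beq x b1) && !(Nat.beq x b2) &&
    !(onLine b0 b1 x) && !(onLine b0 b2 x) && !(onLine b1 b2 x)

/-- The pattern of orthogonality. -/
def key (S : List ℕ) (x : ℕ) : ℕ := S.foldl (fun k s => 2 * k + cond (adj s x) 1 0) 0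

/-- One round: new points with a pattern shared by at most two points outside `fx`. -/
def chkRound (fx : List ℕ) (S new : List ℕ) : Bool :=
  S.all (fun s => fx.contains s) &&
    let keys := (ptList.filter fun x => !(fx.contains x)).map fun x => (x, key S x)
    new.all fun x => isPt x && Nat.ble ((keys.filter fun e => Nat.beq e.2 (key S x)).length) 2

/-- The rounds. -/
def chkRounds : List ℕ → List (List ℕ × List ℕ) → Bool
  | fx, [] => ptList.all fun x => fx.contains x
  | fx, r :: rs => chkRound fx r.1 r.2 && chkRounds (fx ++ r.2) rs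

/-- The fourth point, the two further points and the rounds. -/
def chkRig (r : ℕ) (d : ℕ × List (ℕ × List ℕ) × ℕ × List (ℕ × List ℕ) × List (List ℕ × List ℕ)) : Bool :=
  let B := [b0, b1, b2, r]
  chkTr B d.1 d.2.1 (ptList.filter fun c => !(B.contains c) && Nat.beq (key B c) (key B d.1)) &&
  (let B' := B ++ [d.1]
   chkTr B' d.2.2.1 d.2.2.2.1
      (ptList.filter fun c => !(B'.contains c) && Nat.beq (key B' c) (key B' d.2.2.1)) &&
    chkRounds (B' ++ [d.2.2.1]) d.2.2.2.2 && isPt d.1 && isPt d.2.2.1 &&
      !(B.contains d.1) && !(B'.contains d.2.2.1))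

theorem card_pts : ptList.length = 693 := by decide +kernel

theorem pts_surj : ∀ c < 4096, adj c c = true → c = 0 ∨ isPt (nrm c) = true := by
  have h : ((List.range 4096).all fun c => !(adj c c) || Nat.beq c 0 || isPt (nrm c)) = true := by decide +kernel
  intro c hc hcc
  have := List.all_eq_true.1 h c (List.mem_range.2 hc)
  simp only [hcc, Bool.not_true, Bool.false_or, Bool.or_eq_true] at this
  exact this.imp Nat.eq_of_beq_eq_true id

theorem pts_inj : (ptList.all fun c => !(isNorm (smul 2 c)) && !(isNorm (smul 3 c))) = true := by decide +kernel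

theorem base_pts : (isPt b0 && isPt b1 && isPt b2 && isPt c0 && adj b0 b1 && !(adj b0 c0) && adj b0 b2 &&
    adj b1 b2 && !(onLine b0 b1 b2) && !(Nat.beq b0 b1) && !(Nat.beq b0 b2) && !(Nat.beq b1 b2)) = true := by decide +kernel

theorem deg : (ptList.filter (adj b0)).length = 181 := by decide +kernel

theorem card_w : wList.length = 45 := by decide +kernel

theorem deg_w : (wList.all fun r => Nat.beq (wList.filter (adj r)).length 13) = true := by decide +kernel

theorem sep_w : (wList.all fun v => wList.all fun w => Nat.beq v w || !(adj v w) ||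
    ptList.any fun y => adj b0 y && adj v y && !(adj w y) && !(Nat.beq y b0)) = true := by decide +kernel

theorem sep_base : (ptList.any fun y => adj b0 y && adj b1 y && !(adj b2 y)) = true := by decide +kernel

theorem lines_w : (wLines.all isLine && (wLines.all fun l => l.all fun x => wList.contains x) &&
    Nat.beq wLines.length 27 &&
    wList.all fun x => Nat.beq (wLines.filter fun l => l.contains x).length 3) = true := by decide +kernel

theorem lines_p : (pLines.all isLine && (pLines.all fun l => l.contains b0) && Nat.beq pLines.length 45 &&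
    (ptList.filter fun x => adj b0 x && !(Nat.beq x b0)).all fun x => pLines.any fun l => l.contains x) = true := by
  decide +kernel

theorem tr0_ok : chkTr [] b0 tr0 ptList = true := by decide +kernel

theorem tr1_ok : chkTr [b0] b1 tr1 (ptList.filter fun c => adj b0 c && !(Nat.beq c b0)) = true := by decide +kernel

theorem trApart_ok : chkTr [b0] c0 trApart (ptList.filter fun c => !(adj b0 c)) = true := by decide +kernel

theorem tr2_ok : chkTr [b0, b1] b2 tr2
    (ptList.filter fun c => adj b0 c && adj b1 c && !(Nat.beq c b0) && !(Nat.beq c b1) && !(onLine b0 b1 c)) = true := by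
  decide +kernel

theorem e3_ok : (e3.all isPt && Nat.beq (act e3 b0) b0 && Nat.beq (act e3 b1) b1 && Nat.beq (act e3 b2) b2 &&
    Nat.beq orbs.length 3 &&
    (orbs.all fun o => Nat.beq o.length 3 && Nat.beq (act e3 (o.getD 0 0)) (o.getD 1 0) &&
      Nat.beq (act e3 (o.getD 1 0)) (o.getD 2 0) && !(Nat.beq (o.getD 0 0) (o.getD 1 0)) &&
      !(Nat.beq (o.getD 0 0) (o.getD 2 0)) && !(Nat.beq (o.getD 1 0) (o.getD 2 0))) &&
    nineList.all fun x => orbs.any fun o => o.contains x) = true := by decide +kernel

theorem rig_ok : ∀ k < 3, chkRig ((orbs.getD k []).getD 0 0) (rigs.getD k (0, [], 0, [], [])) = true := by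
  decide +kernel

end Cfsg.Agent.Block.FischerTypes.U6Code
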