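import Cfsg.Agent.Lib.Spor.USixTwo.K4
import Cfsg.Prelude.Def_Classical

/-! Vectors of the six-dimensional space over four elements as numbers below 4096: bit `i` and bit
`6 + i` give the coordinate `i`. The Hermitian product on the numbers. -/

set_option autoImplicit false

namespace Cfsg.Agent.Block.FischerTypes.U6Code

open Cfsg.Agent.Spor.USixTwo

/-- The bit at `n` is the parity of `n`, for `n` below 64. -/
def parTab : ℕ := 0x6996966996696996

/-- Parity. -/
def par (n : ℕ) : Bool := Nat.beq ((parTab >>> n) &&& 1) 1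

/-- First components. -/
def lo (c : ℕ) : ℕ := c &&& 63

/-- Second components. -/
def hi (c : ℕ) : ℕ := (c >>> 6) &&& 63

/-- A number from its components. -/
def mk (a b : ℕ) : ℕ := a ||| (b <<< 6)

/-- The first component of the product. -/
def re (u v : ℕ) : Bool := par ((lo u &&& (lo v ^^^ hi v)) ^^^ (hi u &&& hi v))

/-- The second component of the product. -/
def im (u v : ℕ) : Bool := par ((lo u &&& hi v) ^^^ (hi u &&& lo v))

/-- Orthogonality. -/
def adj (u v : ℕ) : Bool := !(re u v || im u v)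

/-- The product. -/
def hv (u v : ℕ) : ℕ := cond (re u v) 1 0 + cond (im u v) 2 0

/-- Multiplication by the scalar with number `s`. -/
def smul : ℕ → ℕ → ℕ
  | 0, _ => 0
  | 1, c => mk (lo c) (hi c)
  | 2, c => mk (hi c) (lo c ^^^ hi c)
  | _, c => mk (lo c ^^^ hi c) (lo c)

/-- The first coordinate which is not zero is one. -/
def isNorm (c : ℕ) : Bool :=
  let m := lo c ||| hi c
  let l := m ^^^ (m &&& (m - 1))
  !(Nat.beq m 0) && Nat.beq (l &&& lo c) l && Nat.beq (l &&& hi c) 0

/-- The normalised multiple. -/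
def nrm (c : ℕ) : ℕ :=
  cond (isNorm c) c (cond (isNorm (smul 2 c)) (smul 2 c) (smul 3 c))

/-- A point of the polar space. -/
def isPt (c : ℕ) : Bool := Nat.blt c 4096 && isNorm c && adj c c

/-- The transvection of `p` on the point `c`. -/
def refl (p c : ℕ) : ℕ := cond (adj c p) c (nrm (c ^^^ smul (hv c p) p))

/-- An element of the field. -/
def ofBits (p q : Bool) : K4 := K4.of (cond p 1 0 + cond q 2 0)

/-- The vector. -/
def vec (c : ℕ) : Fin 6 → K4 := fun i => ofBits (c.testBit i) (c.testBit (6 + i))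

theorem ofBits_add : ∀ p q r s : Bool, ofBits p q + ofBits r s = ofBits (p ^^ r) (q ^^ s) := by decide +kernel

theorem ofBits_zero : ofBits false false = 0 := by decide +kernel

theorem ofBits_mul : ∀ p q r s : Bool, ofBits p q * ofBits r s =
    ofBits ((p && r) ^^ (q && s)) (((p && s) ^^ (q && r)) ^^ (q && s)) := by decide +kernel

theorem ofBits_sq : ∀ p q : Bool, ofBits p q ^ 2 = ofBits (p ^^ q) q := by
  intro p q
  rw [pow_two, ofBits_mul]
  revert p q
  decide +kernel

theorem ofBits_inj : ∀ p q r s : Bool, ofBits p q = ofBits r s → p = r ∧ q = s := by decide +kernel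

theorem exists_ofBits : ∀ x : K4, ∃ p q : Bool, ofBits p q = x := by decide +kernel

theorem ofBits_ne_zero : ∀ p q : Bool, ofBits p q = 0 → p = false ∧ q = false := by decide +kernel

theorem par_eq : ∀ n < 64, par n = (n.testBit 0 ^^ n.testBit 1 ^^ n.testBit 2 ^^ n.testBit 3 ^^
    n.testBit 4 ^^ n.testBit 5) := by decide +kernel

theorem testBit_lo (c : ℕ) {i : ℕ} (hi' : i < 6) : (lo c).testBit i = c.testBit i := by
  have h : (63 : ℕ).testBit i = true := by interval_cases i <;> decide
  simp [lo, Nat.testBit_and, h]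

theorem testBit_hi (c : ℕ) {i : ℕ} (hi' : i < 6) : (hi c).testBit i = c.testBit (6 + i) := by
  have h : (63 : ℕ).testBit i = true := by interval_cases i <;> decide
  simp [hi, Nat.testBit_and, Nat.testBit_shiftRight, h]

theorem lo_lt (c : ℕ) : lo c < 64 := Nat.lt_succ_of_le Nat.and_le_right

theorem hi_lt (c : ℕ) : hi c < 64 := Nat.lt_succ_of_le Nat.and_le_right

theorem testBit_small {a : ℕ} (ha : a < 64) (i : ℕ) : a.testBit (6 + i) = false :=
  Nat.testBit_lt_two_pow (lt_of_lt_of_le ha (by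
    calc (64 : ℕ) = 2 ^ 6 := by norm_num
      _ ≤ 2 ^ (6 + i) := Nat.pow_le_pow_right (by norm_num) (by omega)))

theorem mk_lt {a b : ℕ} (ha : a < 64) (hb : b < 64) : mk a b < 4096 := by
  refine Nat.or_lt_two_pow (n := 12) (by omega) ?_
  rw [Nat.shiftLeft_eq]
  omega

theorem vec_mk {a b : ℕ} (ha : a < 64) (i : Fin 6) :
    vec (mk a b) i = ofBits (a.testBit i) (b.testBit i) := by
  have h1 : (mk a b).testBit (i : ℕ) = a.testBit i := by
    simp only [mk, Nat.testBit_or, Nat.testBit_shiftLeft]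
    simp
  have h2 : (mk a b).testBit (6 + i : ℕ) = b.testBit i := by
    simp only [mk, Nat.testBit_or, Nat.testBit_shiftLeft, testBit_small ha]
    simp
  simp [vec, h1, h2]

theorem vec_xor (u v : ℕ) : vec (u ^^^ v) = vec u + vec v := by
  funext i
  simp [vec, ofBits_add, Nat.testBit_xor]

theorem vec_zero : vec 0 = 0 := by
  funext i
  simp [vec, ofBits_zero]

theorem exists_vec (v : Fin 6 → K4) : ∃ c < 4096, vec c = v := by
  choose p q h using fun i => exists_ofBits (v i)
  let a := Nat.ofBits p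
  let b := Nat.ofBits q
  have ha : a < 64 := Nat.ofBits_lt_two_pow p
  refine ⟨mk a b, mk_lt ha (Nat.ofBits_lt_two_pow q), funext fun i => ?_⟩
  rw [vec_mk ha]
  simp only [a, b, Nat.testBit_ofBits_lt _ _ i.2, Fin.eta]
  exact h i

theorem eq_of_vec {u v : ℕ} (hu : u < 4096) (hv' : v < 4096) (h : vec u = vec v) : u = v := by
  refine Nat.eq_of_testBit_eq fun k => ?_
  rcases Nat.lt_or_ge k 6 with h1 | h1
  · exact (ofBits_inj _ _ _ _ (congrFun h ⟨k, h1⟩)).1
  rcases Nat.lt_or_ge k 12 with h2 | h2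
  · have := (ofBits_inj _ _ _ _ (congrFun h ⟨k - 6, by omega⟩)).2
    rwa [Nat.add_sub_cancel' h1] at this
  · have : (4096 : ℕ) ≤ 2 ^ k := by
      calc (4096 : ℕ) = 2 ^ 12 := by norm_num
        _ ≤ _ := Nat.pow_le_pow_right (by norm_num) h2
    rw [Nat.testBit_lt_two_pow (by omega), Nat.testBit_lt_two_pow (by omega)]

theorem hermForm_vec (u v : ℕ) : Cfsg.hermForm 6 K4 2 (vec u) (vec v) = ofBits (re u v) (im u v) := by
  have hl := lo_lt u
  have hh := hi_lt u
  rw [re, im, par_eq _ (Nat.xor_lt_two_pow (n := 6) (lt_of_le_of_lt Nat.and_le_left hl)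
      (lt_of_le_of_lt Nat.and_le_left hh)),
    par_eq _ (Nat.xor_lt_two_pow (n := 6) (lt_of_le_of_lt Nat.and_le_left hl)
      (lt_of_le_of_lt Nat.and_le_left hh))]
  simp only [Nat.testBit_xor, Nat.testBit_and, testBit_lo _ (show 0 < 6 by norm_num),
    testBit_lo _ (show 1 < 6 by norm_num), testBit_lo _ (show 2 < 6 by norm_num),
    testBit_lo _ (show 3 < 6 by norm_num), testBit_lo _ (show 4 < 6 by norm_num),
    testBit_lo _ (show 5 < 6 by norm_num), testBit_hi _ (show 0 < 6 by norm_num),
    testBit_hi _ (show 1 < 6 by norm_num), testBit_hi _ (show 2 < 6 by norm_num),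
    testBit_hi _ (show 3 < 6 by norm_num), testBit_hi _ (show 4 < 6 by norm_num),
    testBit_hi _ (show 5 < 6 by norm_num)]
  simp only [Cfsg.hermForm, Fin.sum_univ_six, vec, ofBits_sq, ofBits_mul, ofBits_add]
  simp only [Fin.coe_ofNat_eq_mod, Nat.reduceMod, Nat.reduceAdd]
  congr 1 <;>
  · generalize u.testBit 0 = a0, v.testBit 0 = c0, u.testBit 6 = b0, v.testBit 6 = d0
    generalize u.testBit 1 = a1, v.testBit 1 = c1, u.testBit 7 = b1, v.testBit 7 = d1
    generalize u.testBit 2 = a2, v.testBit 2 = c2, u.testBit 8 = b2, v.testBit 8 = d2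
    generalize u.testBit 3 = a3, v.testBit 3 = c3, u.testBit 9 = b3, v.testBit 9 = d3
    generalize u.testBit 4 = a4, v.testBit 4 = c4, u.testBit 10 = b4, v.testBit 10 = d4
    generalize u.testBit 5 = a5, v.testBit 5 = c5, u.testBit 11 = b5, v.testBit 11 = d5
    simp only [Bool.and_xor_distrib_left, Bool.xor_assoc, Bool.xor_comm, Bool.xor_left_comm,
      Bool.and_comm, Bool.xor_self, Bool.xor_false, Bool.false_xor]

theorem adj_iff (u v : ℕ) : adj u v = true ↔ Cfsg.hermForm 6 K4 2 (vec u) (vec v) = 0 := by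
  rw [hermForm_vec]
  constructor
  · intro h
    simp only [adj, Bool.not_eq_true', Bool.or_eq_false_iff] at h
    rw [h.1, h.2, ofBits_zero]
  · intro h
    obtain ⟨h1, h2⟩ := ofBits_ne_zero _ _ h
    simp [adj, h1, h2]

theorem of_hv (u v : ℕ) : K4.of (hv u v) = Cfsg.hermForm 6 K4 2 (vec u) (vec v) := by
  rw [hermForm_vec]; rfl

theorem smul_lt (s c : ℕ) : smul s c < 4096 := by
  rcases s with _ | _ | _ | s
  · simp [smul]
  all_goals
    refine mk_lt ?_ ?_ <;>
      first
        | exact lo_lt c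
        | exact hi_lt c
        | exact Nat.xor_lt_two_pow (n := 6) (lo_lt c) (hi_lt c)

theorem vec_smul {s : ℕ} (hs : s < 4) (c : ℕ) : vec (smul s c) = K4.of s • vec c := by
  have e : K4.of s = ofBits (s.testBit 0) (s.testBit 1) := by revert hs; revert s; decide +kernel
  funext i
  rw [Pi.smul_apply, smul_eq_mul, e]
  interval_cases s
  · show vec 0 i = _
    rw [vec_zero]
    simp [vec, ofBits_mul, ofBits_zero]
  all_goals
    simp only [smul]
    rw [vec_mk (by first
      | exact lo_lt c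
      | exact hi_lt c
      | exact Nat.xor_lt_two_pow (n := 6) (lo_lt c) (hi_lt c))]
    simp only [Nat.testBit_xor, testBit_lo _ i.2, testBit_hi _ i.2, vec, ofBits_mul]
    generalize c.testBit i = p, c.testBit (6 + i) = q
    revert p q
    decide

theorem nrm_eq {c : ℕ} (hc : c < 4096) : ∃ s, 1 ≤ s ∧ s < 4 ∧ nrm c = smul s c := by
  have h1 : smul 1 c = c := by
    refine eq_of_vec (smul_lt 1 c) hc ?_
    rw [vec_smul (by norm_num)]
    exact one_smul _ _
  unfold nrm
  rcases isNorm c <;> rcases isNorm (smul 2 c) <;> simp only [cond_true, cond_false]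
  exacts [⟨3, by norm_num, by norm_num, rfl⟩, ⟨2, by norm_num, by norm_num, rfl⟩,
    ⟨1, le_rfl, by norm_num, h1.symm⟩, ⟨1, le_rfl, by norm_num, h1.symm⟩]

theorem of_ne_zero {s : ℕ} (h1 : 1 ≤ s) (h2 : s < 4) : K4.of s ≠ 0 := by
  interval_cases s <;> decide +kernel

end Cfsg.Agent.Block.FischerTypes.U6Code
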