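import Cfsg.Agent.Lib.Block.FischerTypes.U6Code.Checks

/-! The quadrangle on the lines through a point of the polar space, decided on the numbers. -/

set_option autoImplicit false
set_option maxRecDepth 100000
set_option maxHeartbeats 4000000

namespace Cfsg.Agent.Block.FischerTypes.U6Code

/-- For each line through the base point, the lines coplanar with it, as bits. -/
def qNb : List Nat := [21028682072160, 22682261127248, 26877905369160, 129186234436, 8388634178, 33055169, 82160123967, 4761681141792, 9394343919648, 1478821814288, 11023122055184, 11685005991940, 23370011885572, 8934879398580, 17869287462196, 1673165019144, 6633133447176, 7052343117314, 28123472070146, 4552942338346, 18176373235882, 861157886561, 3311421011104, 3367792102176, 13212395574369, 2089031827841, 1273492489241, 33095138935169, 19809597694489, 2495418009810, 4956711105296, 5016725277840, 9930639708498, 2818610169164, 9071827387528, 9075470566152, 5508438426316, 14293752489991, 17644298326660, 17604034201858, 210566943233, 17601728285697, 209531375746, 193424796932, 3024060960775]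

/-- The points of the lines through the base point, other than it. -/
def qPts : List Nat := (pLines.map List.tail).flatten

/-- The number of the line through the base point and `x`. -/
def qIdx (x : Nat) : Nat := pLines.findIdx fun l => l.contains x

/-- Coplanarity of two numbered lines. -/
def qAdj (i j : Nat) : Bool := (qNb.getD i 0).testBit j

/-- The lines coplanar with two. -/
def qCom (i j : Nat) : List Nat := (List.range 45).filter fun k => qAdj i k && qAdj j k

theorem qPts_ok : (qPts.all (fun x => isPt x && adj b0 x && !(Nat.beq x b0) && Nat.blt (qIdx x) 45) &&
    pLines.all (fun l => Nat.beq (l.headD 0) b0 && Nat.beq l.length 5) &&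
    (List.range 45).all fun i => Nat.beq (qPts.filter fun x => Nat.beq (qIdx x) i).length 4) = true := by
  decide +kernel

theorem qPts_nodup : qPts.Nodup := by decide +kernel

theorem qAdj_ok : (qPts.all fun x => qPts.all fun y =>
    adj x y == (Nat.beq (qIdx x) (qIdx y) || qAdj (qIdx x) (qIdx y))) = true := by decide +kernel

theorem q_basic : ((List.range 45).all fun i => !(qAdj i i) &&
    Nat.beq ((List.range 45).filter (qAdj i)).length 12 &&
    (List.range 45).all fun j => qAdj i j == qAdj j i && (Nat.beq i j || Nat.beq (qCom i j).length 3)) = true := by
  decide +kernel

theorem q_line : ((List.range 45).all fun i => (List.range 45).all fun j => !(qAdj i j) ||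
    ((qCom i j).all (fun k => (qCom i j).all fun l => Nat.beq k l || qAdj k l) &&
      (List.range 45).all fun r => (i :: j :: qCom i j).contains r ||
        Nat.beq ((i :: j :: qCom i j).filter (qAdj r)).length 1)) = true := by
  decide +kernel

theorem q_four : ((List.range 45).all fun p =>
    let n := (List.range 45).filter (qAdj p)
    n.all fun a => n.all fun b => Nat.beq a b || qAdj a b ||
      n.all fun c => Nat.beq a c || qAdj a c || Nat.beq b c || qAdj b c ||
        n.all fun d => Nat.beq a d || qAdj a d || Nat.beq b d || qAdj b d || Nat.beq c d || qAdj c d) = true := by
  decide +kernel

end Cfsg.Agent.Block.FischerTypes.U6Code
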