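import Cfsg.Agent.Lib.Block.FischerTypes.U6Code.Local

/-! Bounds from lines carrying at most two members of a set. -/

set_option autoImplicit false
set_option linter.style.haveILetI false
set_option maxRecDepth 20000

namespace Cfsg.Agent.Block.FischerTypes.U6Code

open Cfsg Cfsg.Agent.Spor.ThreeTrans

variable {G : Type*} [Group G] [Finite G] {D : Set G} {a : G}

/-- No three members of `S` on a line. -/
def NoThree (D : Set G) (a : G) (S : Set G) : Prop :=
  ∀ u ∈ S, ∀ v ∈ S, ∀ w ∈ S, u ≠ v → u ≠ w → v ≠ w → Commute u v → Commute u w → Commute v w →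
    LineT D a u v w → False

namespace Model

variable (M : Model D a)

include M in
theorem isLine_le_two {S : Set G} (hS : NoThree D a S) {l : List ℕ} (hl : isLine l = true) (T : Finset ℕ)
    (hT : ∀ x ∈ T, M.pt x ∈ S) : (l.toFinset ∩ T).card ≤ 2 := by
  by_contra hlt
  obtain ⟨x, hx, y, hy, z, hz, hxy, hxz, hyz⟩ := Finset.two_lt_card.1 (not_le.1 hlt)
  simp only [Finset.mem_inter, List.mem_toFinset] at hx hy hz
  simp only [isLine, Bool.and_eq_true, List.all_eq_true, Bool.or_eq_true] at hl
  obtain ⟨⟨-, hpt⟩, hall⟩ := hl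
  have key : ∀ p q r, p ∈ l → q ∈ l → r ∈ l → p ≠ q → p ≠ r → q ≠ r → adj p q = true ∧ onLine p q r = true :=
    fun p q r hp hq hr k1 k2 k3 => (hall p hp q hq r hr).resolve_left
      (fun k => by
        rcases k with (k | k) | k
        exacts [k1 (Nat.eq_of_beq_eq_true k), k2 (Nat.eq_of_beq_eq_true k), k3 (Nat.eq_of_beq_eq_true k)])
  have px := hpt x hx.1
  have py := hpt y hy.1
  have pz := hpt z hz.1
  exact hS _ (hT x hx.2) _ (hT y hy.2) _ (hT z hz.2) (fun e => hxy (M.inj x y px py e))
    (fun e => hxz (M.inj x z px pz e)) (fun e => hyz (M.inj y z py pz e))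
    ((M.comm x y px py).2 (key x y z hx.1 hy.1 hz.1 hxy hxz hyz).1)
    ((M.comm x z px pz).2 (key x z y hx.1 hz.1 hy.1 hxz hxy (Ne.symm hyz)).1)
    ((M.comm y z py pz).2 (key y z x hy.1 hz.1 hx.1 hyz (Ne.symm hxy) (Ne.symm hxz)).1)
    (M.lineT px py pz (key x y z hx.1 hy.1 hz.1 hxy hxz hyz).2)

include M in
/-- At most 90 members of `S` commute with a member outside `S`. -/
theorem le_ninety (h : IsThreeTranspositionClass D) {S : Set G} (hS : NoThree D a S) {b : G}
    (hb : b ∈ perp D a) (hbS : b ∉ S) : {u | u ∈ perp D a ∧ (u ∈ S ∧ Commute b u)}.ncard ≤ 90 := by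
  classical
  obtain ⟨N, rfl⟩ := M.exists_base h hb
  let T : List ℕ := ptList.filter fun c => decide (N.pt c ∈ S ∧ Commute (N.pt b0) (N.pt c))
  rw [N.ncard_eq (l := T) (nodup_ptList.filter _) (fun c hc => mem_ptList.1 (List.mem_filter.1 hc).1)
    (fun c hc => by
      simp only [T, List.mem_filter, decide_eq_true_iff]
      exact (and_iff_right (mem_ptList.2 hc)).symm), ← List.toFinset_card_of_nodup (nodup_ptList.filter _)]
  have h' := lines_p
  simp only [Bool.and_eq_true, List.all_eq_true] at h'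
  obtain ⟨⟨⟨hline, -⟩, hlen⟩, hcov⟩ := h'
  have hsub : T.toFinset ⊆ pLines.toFinset.biUnion fun l => l.toFinset ∩ T.toFinset := by
    intro c hc
    have hc' := List.mem_toFinset.1 hc
    simp only [T, List.mem_filter, decide_eq_true_iff] at hc'
    obtain ⟨hcp, hcS, hcb⟩ := hc'
    have hne : c ≠ b0 := fun e => hbS (e ▸ hcS)
    have := hcov c (List.mem_filter.2 ⟨hcp, by
      simp only [Bool.and_eq_true, Bool.not_eq_true', ← Bool.not_eq_true]
      exact ⟨(N.comm _ _ pt_b0 (mem_ptList.1 hcp)).1 hcb, fun e => hne (Nat.eq_of_beq_eq_true e)⟩⟩)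
    obtain ⟨l, hl, hcl⟩ := List.any_eq_true.1 this
    exact Finset.mem_biUnion.2 ⟨l, List.mem_toFinset.2 hl,
      Finset.mem_inter.2 ⟨List.mem_toFinset.2 (List.contains_iff_mem.1 hcl), hc⟩⟩
  refine (Finset.card_le_card hsub).trans (Finset.card_biUnion_le.trans ?_)
  refine (Finset.sum_le_card_nsmul _ _ 2 fun l hl => N.isLine_le_two hS (hline l (List.mem_toFinset.1 hl)) _
    fun x hx => ?_).trans ?_
  · have := List.mem_toFinset.1 hx
    simp only [T, List.mem_filter, decide_eq_true_iff] at this
    exact this.2.1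
  · have := List.toFinset_card_le pLines
    rw [Nat.eq_of_beq_eq_true hlen] at this
    rw [smul_eq_mul]
    omega

include M in
/-- At most 18 members of `S` commute with an apart pair. -/
theorem le_eighteen (h : IsThreeTranspositionClass D) {S : Set G} (hS : NoThree D a S) {p q : G}
    (hp : p ∈ perp D a) (hq : q ∈ perp D a) (hnc : ¬ Commute p q) :
    {u | u ∈ perp D a ∧ (u ∈ S ∧ Commute p u ∧ Commute q u)}.ncard ≤ 18 := by
  classical
  obtain ⟨N, rfl, rfl⟩ := M.exists_apart h hp hq hnc
  let T : List ℕ := wList.filter fun c => decide (N.pt c ∈ S)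
  have hnd : T.Nodup := (nodup_ptList.filter _).filter _
  rw [N.ncard_eq (l := T) hnd
    (fun c hc => mem_ptList.1 (List.mem_filter.1 (List.mem_filter.1 hc).1).1)
    (fun c hc => by
      simp only [T, List.mem_filter, decide_eq_true_iff, wList, Bool.and_eq_true]
      rw [N.comm _ _ pt_b0 hc, N.comm _ _ pt_c0 hc]
      exact ⟨fun k => ⟨⟨mem_ptList.2 hc, k.2⟩, k.1⟩, fun k => ⟨k.2, k.1.2⟩⟩),
    ← List.toFinset_card_of_nodup hnd]
  have h' := lines_w
  simp only [Bool.and_eq_true, List.all_eq_true] at h'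
  obtain ⟨⟨⟨hline, -⟩, hlen⟩, hinc⟩ := h'
  have hsum : 3 * T.toFinset.card ≤ ∑ l ∈ wLines.toFinset, (l.toFinset ∩ T.toFinset).card := by
    have e : ∀ c ∈ T.toFinset, (wLines.toFinset.filter fun l => c ∈ l).card = 3 := fun c hc => by
      have hc' := (List.mem_filter.1 (List.mem_toFinset.1 hc)).1
      have hnd : wLines.Nodup := by decide +kernel
      rw [show wLines.toFinset.filter (fun l => c ∈ l) = (wLines.filter fun l => l.contains c).toFinset from
        Finset.ext fun l => by simp only [Finset.mem_filter, List.mem_toFinset, List.mem_filter, List.contains_iff_mem],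
        List.toFinset_card_of_nodup (hnd.filter _)]
      exact Nat.eq_of_beq_eq_true (hinc c hc')
    refine le_of_eq ?_
    calc 3 * T.toFinset.card = ∑ c ∈ T.toFinset, (wLines.toFinset.filter fun l => c ∈ l).card := by
          rw [Finset.sum_congr rfl e, Finset.sum_const, smul_eq_mul, mul_comm]
      _ = ∑ c ∈ T.toFinset, ∑ l ∈ wLines.toFinset, if c ∈ l then 1 else 0 :=
          Finset.sum_congr rfl fun c _ => (Finset.card_filter _ _)
      _ = ∑ l ∈ wLines.toFinset, ∑ c ∈ T.toFinset, if c ∈ l then 1 else 0 := Finset.sum_comm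
      _ = _ := Finset.sum_congr rfl fun l _ => by
          rw [← Finset.card_filter]
          congr 1
          ext c
          simp [and_comm]
  have hle : ∑ l ∈ wLines.toFinset, (l.toFinset ∩ T.toFinset).card ≤ wLines.toFinset.card * 2 :=
    Finset.sum_le_card_nsmul _ _ 2 fun l hl => N.isLine_le_two hS (hline l (List.mem_toFinset.1 hl)) _
      fun x hx => by simpa using (List.mem_filter.1 (List.mem_toFinset.1 hx)).2
  have := List.toFinset_card_le wLines
  rw [Nat.eq_of_beq_eq_true hlen] at this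
  omega

end Model

end Cfsg.Agent.Block.FischerTypes.U6Code
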