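import Cfsg.Agent.Lib.Block.FischerTypes.U6Code.Checks
import Cfsg.Agent.Lib.Block.FischerTypes.M22Group
import Cfsg.Agent.Lib.Spor.SUFieldCongr

/-! The members commuting with a transposition of a group of type M(22) as the numbered points. -/

set_option autoImplicit false
set_option linter.style.haveILetI false

namespace Cfsg.Agent.Block.FischerTypes.U6Code

open Matrix Cfsg Cfsg.Agent.Classical Cfsg.Agent.Classical.PSUAut Cfsg.Agent.Spor.UnitTwo Cfsg.Agent.Spor.USixTwo
open Cfsg.Agent.Spor.ThreeTrans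

theorem h4 : Fintype.card K4 = 4 := rfl

theorem ne_zero_of_isPt {c : ℕ} (hc : isPt c = true) : c ≠ 0 := by
  rintro rfl
  revert hc
  decide +kernel

theorem lt_of_isPt {c : ℕ} (hc : isPt c = true) : c < 4096 := by
  simp only [isPt, Bool.and_eq_true] at hc
  exact Nat.le_of_ble_eq_true hc.1.1

theorem iso_of_isPt {c : ℕ} (hc : isPt c = true) : hermForm 6 K4 2 (vec c) (vec c) = 0 := by
  simp only [isPt, Bool.and_eq_true] at hc
  exact (adj_iff c c).1 hc.2

theorem vec_ne_zero {c : ℕ} (h0 : c ≠ 0) (hc : c < 4096) : vec c ≠ 0 := fun e =>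
  h0 (eq_of_vec hc (by norm_num) (e.trans vec_zero.symm))

theorem mem_ptList {c : ℕ} : c ∈ ptList ↔ isPt c = true := by
  simp only [ptList, List.mem_filter, List.mem_range]
  exact ⟨fun h => h.2, fun h => ⟨lt_of_isPt h, h⟩⟩

theorem hv_lt (u v : ℕ) : hv u v < 4 := by
  unfold hv
  rcases re u v <;> rcases im u v <;> simp

/-- The root of a point. -/
noncomputable def rho (c : ℕ) : PSU 6 K4 2 :=
  if h : hermForm 6 K4 2 (vec c) (vec c) = 0 then U6.root h4 h else 1

theorem rho_eq {c : ℕ} (hc : hermForm 6 K4 2 (vec c) (vec c) = 0) : rho c = U6.root h4 hc := dif_pos hc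

theorem rho_mem {c : ℕ} (hc : isPt c = true) : rho c ∈ U6.roots h4 6 :=
  ⟨vec c, vec_ne_zero (ne_zero_of_isPt hc) (lt_of_isPt hc), iso_of_isPt hc, (rho_eq _).symm⟩

/-- A nonzero isotropic vector gives the root of its normalised number. -/
theorem rho_nrm {c : ℕ} (hc : c < 4096) (h0 : c ≠ 0) (hi : hermForm 6 K4 2 (vec c) (vec c) = 0) :
    isPt (nrm c) = true ∧ rho (nrm c) = U6.root h4 hi := by
  have h := (pts_surj c hc ((adj_iff c c).2 hi)).resolve_left h0
  refine ⟨h, ?_⟩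
  obtain ⟨s, h1, h2, e⟩ := nrm_eq hc
  have ev : vec (nrm c) = K4.of s • vec c := by rw [e, vec_smul h2]
  rw [rho_eq (iso_of_isPt h), U6.root_congr h4 (iso_of_isPt h) (ev ▸ iso_of_isPt h) ev]
  exact U6.root_smul h4 hi (of_ne_zero h1 h2) _

theorem rho_surj {x : PSU 6 K4 2} (hx : x ∈ U6.roots h4 6) : ∃ c, isPt c = true ∧ rho c = x := by
  obtain ⟨v, hv0, hvv, rfl⟩ := hx
  obtain ⟨c, hc, rfl⟩ := exists_vec v
  exact ⟨nrm c, rho_nrm hc (fun e => hv0 (e ▸ vec_zero)) hvv⟩

theorem rho_inj {c d : ℕ} (hc : isPt c = true) (hd : isPt d = true) (e : rho c = rho d) : c = d := by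
  rw [rho_eq (iso_of_isPt hc), rho_eq (iso_of_isPt hd)] at e
  obtain ⟨a, ha, ev⟩ := U6.root_eq h4 (by norm_num) _ _ (vec_ne_zero (ne_zero_of_isPt hc) (lt_of_isPt hc)) e
  obtain ⟨n, hn, rfl⟩ := K4.exists_of a
  have k : c = smul n d := eq_of_vec (lt_of_isPt hc) (smul_lt n d) (by rw [ev, vec_smul hn])
  have hn0 : n ≠ 0 := by rintro rfl; exact ha (by decide +kernel)
  have hi := List.all_eq_true.1 pts_inj d (mem_ptList.2 hd)
  have hN : isNorm c = true := by simp only [isPt, Bool.and_eq_true] at hc; exact hc.1.2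
  simp only [Bool.and_eq_true, Bool.not_eq_true'] at hi
  interval_cases n
  · exact absurd rfl hn0
  · rw [k]
    refine eq_of_vec (smul_lt 1 d) (lt_of_isPt hd) ?_
    rw [vec_smul (by norm_num)]
    exact one_smul _ _
  · rw [k, hi.1] at hN; exact absurd hN (by simp)
  · rw [k, hi.2] at hN; exact absurd hN (by simp)

theorem rho_commute {c d : ℕ} (hc : isPt c = true) (hd : isPt d = true) :
    Commute (rho c) (rho d) ↔ adj c d = true := by
  rw [rho_eq (iso_of_isPt hc), rho_eq (iso_of_isPt hd), U6.root_commute h4 (by norm_num) _ _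
    (vec_ne_zero (ne_zero_of_isPt hc) (lt_of_isPt hc)) (vec_ne_zero (ne_zero_of_isPt hd) (lt_of_isPt hd)),
    adj_iff]

theorem rho_conj {p c : ℕ} (hp : isPt p = true) (hc : isPt c = true) :
    isPt (refl p c) = true ∧ rho p * rho c * rho p = rho (refl p c) := by
  have hP := iso_of_isPt hp
  have hC := iso_of_isPt hc
  have key : rho p * rho c * rho p = U6.root h4 (v := suVal (tv h4 hP) *ᵥ vec c) (by rw [su_form]; exact hC) := by
    rw [rho_eq hP, rho_eq hC]
    simp only [U6.root, ← map_mul]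
    congr 1
    conv_lhs => arg 2; rw [← inv_eq_of_mul_eq_one_right (tv_mul_self h4 hP)]
    exact suVal_conj h4 _ hC
  have ev : suVal (tv h4 hP) *ᵥ vec c = vec c + hermForm 6 K4 2 (vec c) (vec p) • vec p := by
    rw [suVal_tv h4, T_apply h4]
  by_cases h : adj c p = true
  · have e : refl p c = c := by rw [refl, h]; rfl
    rw [e]
    refine ⟨hc, key.trans ?_⟩
    rw [rho_eq hC]
    refine U6.root_congr h4 _ _ ?_
    rw [ev, (adj_iff c p).1 h, zero_smul, add_zero]
  · obtain ⟨x, hx⟩ : ∃ x, x = c ^^^ smul (hv c p) p := ⟨_, rfl⟩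
    have e : refl p c = nrm x := by rw [refl, Bool.eq_false_iff.2 h, hx]; rfl
    have evx : vec x = suVal (tv h4 hP) *ᵥ vec c := by
      rw [ev, hx, vec_xor, vec_smul (hv_lt c p), of_hv]
    have hxi : hermForm 6 K4 2 (vec x) (vec x) = 0 := by rw [evx, su_form]; exact hC
    have hx4 : x < 4096 := hx ▸ Nat.xor_lt_two_pow (n := 12) (lt_of_isPt hc) (smul_lt _ _)
    have hx0 : x ≠ 0 := fun k => by
      have k1 : vec x = 0 := k ▸ vec_zero
      rw [evx] at k1
      have k2 := congrArg (suVal (tv h4 hP) *ᵥ ·) k1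
      simp only [Matrix.mulVec_mulVec, ← suVal_mul, tv_mul_self h4 hP, Matrix.mulVec_zero] at k2
      exact vec_ne_zero (ne_zero_of_isPt hc) (lt_of_isPt hc) (by
        rw [← k2, show suVal (1 : SU 6 K4 2) = 1 from rfl, Matrix.one_mulVec])
    obtain ⟨h1, h2⟩ := rho_nrm hx4 hx0 hxi
    rw [e]
    exact ⟨h1, key.trans (Eq.trans (U6.root_congr h4 _ hxi evx.symm) h2.symm)⟩

variable {G : Type*} [Group G] [Finite G]

/-- The members commuting with `a`, numbered. -/
structure Model (D : Set G) (a : G) where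
  /-- The member with a number. -/
  pt : ℕ → G
  mem : ∀ c, isPt c = true → pt c ∈ perp D a
  surj : ∀ u ∈ perp D a, ∃ c, isPt c = true ∧ pt c = u
  inj : ∀ c d, isPt c = true → isPt d = true → pt c = pt d → c = d
  comm : ∀ c d, isPt c = true → isPt d = true → (Commute (pt c) (pt d) ↔ adj c d = true)
  conj : ∀ p c, isPt p = true → isPt c = true →
    isPt (refl p c) = true ∧ pt p * pt c * pt p = pt (refl p c)

theorem exists_k4 {F : Type} [Field F] [Fintype F] (hF : Fintype.card F = 4) :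
    Nonempty (PSU 6 F 2 ≃* PSU 6 K4 2) := by
  classical
  let φ : F ≃+* K4 := FiniteField.ringEquivOfCardEq (by rw [hF]; rfl)
  let e : SU 6 F 2 ≃* SU 6 K4 2 := Spor.SUCongr.equiv 2 φ
  refine ⟨QuotientGroup.congr _ _ e ?_⟩
  ext y
  constructor
  · rintro ⟨x, hx, rfl⟩
    refine Subgroup.mem_center_iff.2 fun z => ?_
    obtain ⟨w, rfl⟩ := e.surjective z
    show e w * e x = e x * e w
    rw [← map_mul, ← map_mul, Subgroup.mem_center_iff.1 hx w]
  · intro hy
    refine ⟨e.symm y, Subgroup.mem_center_iff.2 fun z => e.injective ?_, e.apply_symm_apply y⟩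
    rw [map_mul, map_mul, e.apply_symm_apply, Subgroup.mem_center_iff.1 hy (e z)]

theorem exists_numbering {D : Set G} (h : IsThreeTranspositionClass D) (htf : TwinFree D) {a : G} (ha : a ∈ D)
    (hm : HasModel D a) : Nonempty (Model D a) := by
  classical
  obtain ⟨F, _, _, hF, ⟨e⟩⟩ := hm
  obtain ⟨k⟩ := exists_k4 hF
  obtain ⟨ψ, hmem, hsurj, hinj, hcom, hconj, -⟩ := exists_model h htf ha h4 (e.trans k)
  have ex : ∀ c, ∃ u, isPt c = true → u ∈ perp D a ∧ ψ u = rho c := fun c => by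
    by_cases hc : isPt c = true
    · obtain ⟨u, hu, e'⟩ := hsurj _ (rho_mem hc)
      exact ⟨u, fun _ => ⟨hu, e'⟩⟩
    · exact ⟨1, fun k => absurd k hc⟩
  choose pt hpt using ex
  refine ⟨⟨pt, fun c hc => (hpt c hc).1, fun u hu => ?_, fun c d hc hd e' => rho_inj hc hd ?_,
    fun c d hc hd => ?_, fun p c hp hc => ?_⟩⟩
  · obtain ⟨c, hc, e'⟩ := rho_surj (hmem u hu)
    exact ⟨c, hc, hinj _ (hpt c hc).1 u hu ((hpt c hc).2.trans e')⟩
  · rw [← (hpt c hc).2, ← (hpt d hd).2, e']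
  · rw [← hcom _ (hpt c hc).1 _ (hpt d hd).1, (hpt c hc).2, (hpt d hd).2]
    exact rho_commute hc hd
  · obtain ⟨h1, h2⟩ := rho_conj hp hc
    obtain ⟨h3, h5⟩ := hconj _ (hpt p hp).1 _ (hpt c hc).1
    refine ⟨h1, hinj _ h3 _ (hpt _ h1).1 ?_⟩
    rw [h5, (hpt p hp).2, (hpt c hc).2, (hpt _ h1).2, h2]

end Cfsg.Agent.Block.FischerTypes.U6Code
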